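import Mathlib.RingTheory.Smooth.Field
import Mathlib.RingTheory.Smooth.Locus
import Mathlib.RingTheory.Localization.FractionRing
import Mathlib.FieldTheory.Finite.Basic

/-!
# Smooth models of finitely generated fields
-/

set_option autoImplicit false
set_option linter.style.haveILetI false
universe u v

namespace Groth.Agent.SmoothModelH7

variable (k : Type v) (K : Type u) [CommRing k] [IsNoetherianRing k] [Field K] [Algebra k K]

theorem exists_smooth_model [Algebra.FormallySmooth k K] (s : Finset K)
    (hs : Subfield.closure (↑s : Set K) = ⊤) :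
    ∃ A : Subalgebra k K, Algebra.FiniteType k A ∧ Algebra.Smooth k A ∧ IsFractionRing A K := by
  let A₀ := Algebra.adjoin k (↑s : Set K)
  haveI : Algebra.FiniteType k A₀ :=
    (Subalgebra.fg_iff_finiteType _).1 (Subalgebra.fg_adjoin_finset s)
  haveI : Algebra.FinitePresentation k A₀ := Algebra.FinitePresentation.of_finiteType.mp inferInstance
  have hfrac : ∀ (A : Subalgebra k K), A₀ ≤ A → IsFractionRing A K := fun A hA => by
    refine IsFractionRing.of_field _ _ fun z => ?_
    obtain ⟨y, hy, w, hw, hyw⟩ := Subfield.mem_closure_iff.1 (hs ▸ Subfield.mem_top z)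
    have h1 : Subring.closure (↑s : Set K) ≤ A.toSubring :=
      Subring.closure_le.2 fun x hx => hA (Algebra.subset_adjoin hx)
    exact ⟨⟨y, h1 hy⟩, ⟨w, h1 hw⟩, hyw.symm⟩
  haveI := hfrac A₀ le_rfl
  haveI : IsLocalization.AtPrime K (⊥ : Ideal A₀) := by
    show IsLocalization (⊥ : Ideal A₀).primeCompl K
    rw [Ideal.primeCompl_bot]
    exact inferInstanceAs (IsFractionRing A₀ K)
  haveI : Algebra.IsSmoothAt k (⊥ : Ideal A₀) :=
    Algebra.FormallySmooth.of_equiv (R := k)
      ((IsLocalization.algEquiv (⊥ : Ideal A₀).primeCompl K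
        (Localization.AtPrime (⊥ : Ideal A₀))).restrictScalars k)
  obtain ⟨f, hf, hsm⟩ := Algebra.IsSmoothAt.exists_notMem_smooth (R := k) (⊥ : Ideal A₀)
  have hf0 : f ≠ 0 := fun h => hf (h ▸ zero_mem _)
  have hfu : ∀ y : Submonoid.powers f, IsUnit (A₀.val y) := by
    rintro ⟨_, n, rfl⟩
    simpa using (isUnit_iff_ne_zero.2 fun h => hf0 (Subtype.ext h)).pow n
  let ψ : Localization.Away f →ₐ[k] K := IsLocalization.liftAlgHom (f := A₀.val) hfu
  have hψ : Function.Injective ψ := by
    refine (injective_iff_map_eq_zero _).2 fun x hx => ?_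
    obtain ⟨a, t, rfl⟩ := IsLocalization.exists_mk'_eq (Submonoid.powers f) x
    have h1 : A₀.val a = 0 := by
      have := congrArg ψ (IsLocalization.mk'_spec (Localization.Away f) a t)
      rw [map_mul, hx, zero_mul] at this
      exact (IsLocalization.lift_eq (g := A₀.val.toRingHom) hfu a).symm.trans this.symm
    rw [show a = 0 from Subtype.ext h1, IsLocalization.mk'_zero]
  let e := AlgEquiv.ofInjective ψ hψ
  haveI := hsm
  haveI : Algebra.Smooth k ψ.range := Algebra.Smooth.of_equiv e
  refine ⟨ψ.range, inferInstance, inferInstance, hfrac _ fun x hx => ⟨algebraMap A₀ _ ⟨x, hx⟩, ?_⟩⟩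
  exact IsLocalization.lift_eq (g := A₀.val.toRingHom) hfu ⟨x, hx⟩

end Groth.Agent.SmoothModelH7
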